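import Cfsg.Agent.Lib.ToddCox.L37C1.Data0
set_option autoImplicit false
set_option maxRecDepth 100000
namespace Cfsg.Agent.Lib.ToddCox.L37C1
def eT_0_2 (j : ℕ) : ℕ := bif Nat.blt j 1 then E_0 else E_1
def eT (j : ℕ) : ℕ := (eT_0_2 j)
noncomputable def chunkF (h : ℕ) : ℕ := Nat.rec (motive := fun _ => ℕ) (eT 0) (fun n _ => eT (Nat.succ n)) h
noncomputable def Eo (r : ℕ) : ℕ := Nat.land (Nat.shiftRight (chunkF (Nat.shiftRight r 8)) (Nat.mul (Nat.land r 255) 54)) 18014398509481983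
def invT : ℕ := 0xffef7cefae78df6d74cf2c70beeb6caeaa689e69648e28607de75c6da6585d65544d24503ce34c2ca2481c61440c2040
def inv (y : ℕ) : ℕ := invOf invT y
def Wt_1_3 (j : ℕ) : List ℕ := bif Nat.blt j 2 then [nat_lit 0, nat_lit 1, nat_lit 0, nat_lit 1] else [nat_lit 6, nat_lit 1, nat_lit 6, nat_lit 1, nat_lit 6, nat_lit 1]
def Wt_0_3 (j : ℕ) : List ℕ := bif Nat.blt j 1 then [nat_lit 0, nat_lit 6, nat_lit 3, nat_lit 2, nat_lit 0, nat_lit 6] else (Wt_1_3 j)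
def Wt_4_6 (j : ℕ) : List ℕ := bif Nat.blt j 5 then [nat_lit 3, nat_lit 1, nat_lit 0, nat_lit 3, nat_lit 2, nat_lit 1] else [nat_lit 2, nat_lit 0, nat_lit 6, nat_lit 0, nat_lit 6, nat_lit 3]
def Wt_3_6 (j : ℕ) : List ℕ := bif Nat.blt j 4 then [nat_lit 3, nat_lit 6, nat_lit 0, nat_lit 6, nat_lit 0, nat_lit 2] else (Wt_4_6 j)
def Wt_0_6 (j : ℕ) : List ℕ := bif Nat.blt j 3 then (Wt_0_3 j) else (Wt_3_6 j)
def Wt_7_9 (j : ℕ) : List ℕ := bif Nat.blt j 8 then [nat_lit 2, nat_lit 2, nat_lit 63] else [nat_lit 3, nat_lit 3, nat_lit 63]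
def Wt_6_9 (j : ℕ) : List ℕ := bif Nat.blt j 7 then [nat_lit 63, nat_lit 1, nat_lit 0, nat_lit 3, nat_lit 2, nat_lit 1, nat_lit 3] else (Wt_7_9 j)
def Wt_10_12 (j : ℕ) : List ℕ := bif Nat.blt j 11 then [nat_lit 1, nat_lit 4, nat_lit 1, nat_lit 0, nat_lit 4] else [nat_lit 0, nat_lit 4, nat_lit 1, nat_lit 4, nat_lit 1]
def Wt_9_12 (j : ℕ) : List ℕ := bif Nat.blt j 10 then [nat_lit 3, nat_lit 4, nat_lit 3, nat_lit 4] else (Wt_10_12 j)
def Wt_6_12 (j : ℕ) : List ℕ := bif Nat.blt j 9 then (Wt_6_9 j) else (Wt_9_12 j)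
def Wt_0_12 (j : ℕ) : List ℕ := bif Nat.blt j 6 then (Wt_0_6 j) else (Wt_6_12 j)
def Wt_13_15 (j : ℕ) : List ℕ := bif Nat.blt j 14 then [nat_lit 2, nat_lit 1, nat_lit 3, nat_lit 1, nat_lit 0, nat_lit 3] else [nat_lit 2, nat_lit 1, nat_lit 2, nat_lit 1]
def Wt_12_15 (j : ℕ) : List ℕ := bif Nat.blt j 13 then [nat_lit 0, nat_lit 1, nat_lit 4, nat_lit 1, nat_lit 4] else (Wt_13_15 j)
def Wt_16_18 (j : ℕ) : List ℕ := bif Nat.blt j 17 then [nat_lit 2, nat_lit 0, nat_lit 5, nat_lit 0, nat_lit 2, nat_lit 0, nat_lit 5, nat_lit 0] else [nat_lit 3, nat_lit 2, nat_lit 0, nat_lit 6, nat_lit 0, nat_lit 6]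
def Wt_15_18 (j : ℕ) : List ℕ := bif Nat.blt j 16 then [nat_lit 6, nat_lit 4, nat_lit 6, nat_lit 5, nat_lit 3, nat_lit 1, nat_lit 0, nat_lit 6, nat_lit 1, nat_lit 5] else (Wt_16_18 j)
def Wt_12_18 (j : ℕ) : List ℕ := bif Nat.blt j 15 then (Wt_12_15 j) else (Wt_15_18 j)
def Wt_19_21 (j : ℕ) : List ℕ := bif Nat.blt j 20 then [nat_lit 3, nat_lit 5, nat_lit 4, nat_lit 5, nat_lit 4] else [nat_lit 3, nat_lit 4, nat_lit 5, nat_lit 4, nat_lit 5]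
def Wt_18_21 (j : ℕ) : List ℕ := bif Nat.blt j 19 then [nat_lit 4, nat_lit 5, nat_lit 4, nat_lit 3, nat_lit 5] else (Wt_19_21 j)
def Wt_22_24 (j : ℕ) : List ℕ := bif Nat.blt j 23 then [nat_lit 5, nat_lit 1, nat_lit 5, nat_lit 1, nat_lit 5, nat_lit 1] else [nat_lit 4, nat_lit 1, nat_lit 4, nat_lit 0, nat_lit 1]
def Wt_21_24 (j : ℕ) : List ℕ := bif Nat.blt j 22 then [nat_lit 4, nat_lit 6, nat_lit 5, nat_lit 3, nat_lit 1, nat_lit 0, nat_lit 6, nat_lit 1, nat_lit 5, nat_lit 6] else (Wt_22_24 j)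
def Wt_18_24 (j : ℕ) : List ℕ := bif Nat.blt j 21 then (Wt_18_21 j) else (Wt_21_24 j)
def Wt_12_24 (j : ℕ) : List ℕ := bif Nat.blt j 18 then (Wt_12_18 j) else (Wt_18_24 j)
def Wt_0_24 (j : ℕ) : List ℕ := bif Nat.blt j 12 then (Wt_0_12 j) else (Wt_12_24 j)
def Wt_25_27 (j : ℕ) : List ℕ := bif Nat.blt j 26 then [nat_lit 6, nat_lit 0, nat_lit 1, nat_lit 3, nat_lit 5, nat_lit 6, nat_lit 4, nat_lit 6, nat_lit 5, nat_lit 1] else [nat_lit 63, nat_lit 3, nat_lit 1, nat_lit 0, nat_lit 3, nat_lit 2, nat_lit 1]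
def Wt_24_27 (j : ℕ) : List ℕ := bif Nat.blt j 25 then [nat_lit 4, nat_lit 0, nat_lit 1, nat_lit 4, nat_lit 1] else (Wt_25_27 j)
def Wt_28_30 (j : ℕ) : List ℕ := bif Nat.blt j 29 then [nat_lit 63, nat_lit 1, nat_lit 63, nat_lit 1] else [nat_lit 63, nat_lit 2, nat_lit 63, nat_lit 2, nat_lit 63]
def Wt_27_30 (j : ℕ) : List ℕ := bif Nat.blt j 28 then [nat_lit 0, nat_lit 0, nat_lit 63] else (Wt_28_30 j)
def Wt_24_30 (j : ℕ) : List ℕ := bif Nat.blt j 27 then (Wt_24_27 j) else (Wt_27_30 j)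
def Wt_31_33 (j : ℕ) : List ℕ := bif Nat.blt j 32 then [nat_lit 2, nat_lit 63, nat_lit 2, nat_lit 63] else [nat_lit 3, nat_lit 63, nat_lit 3, nat_lit 63]
def Wt_30_33 (j : ℕ) : List ℕ := bif Nat.blt j 31 then [nat_lit 63, nat_lit 4, nat_lit 63, nat_lit 4] else (Wt_31_33 j)
def Wt_34_36 (j : ℕ) : List ℕ := bif Nat.blt j 35 then [nat_lit 6, nat_lit 6, nat_lit 63] else [nat_lit 0, nat_lit 3, nat_lit 2, nat_lit 1, nat_lit 3, nat_lit 1]
def Wt_33_36 (j : ℕ) : List ℕ := bif Nat.blt j 34 then [nat_lit 4, nat_lit 4, nat_lit 63] else (Wt_34_36 j)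
def Wt_30_36 (j : ℕ) : List ℕ := bif Nat.blt j 33 then (Wt_30_33 j) else (Wt_33_36 j)
def Wt_24_36 (j : ℕ) : List ℕ := bif Nat.blt j 30 then (Wt_24_30 j) else (Wt_30_36 j)
def Wt_37_39 (j : ℕ) : List ℕ := bif Nat.blt j 38 then [nat_lit 6, nat_lit 5, nat_lit 3, nat_lit 1, nat_lit 0, nat_lit 6, nat_lit 1, nat_lit 5, nat_lit 6, nat_lit 4] else [nat_lit 1, nat_lit 2, nat_lit 1, nat_lit 2]
def Wt_36_39 (j : ℕ) : List ℕ := bif Nat.blt j 37 then [nat_lit 1, nat_lit 6, nat_lit 1, nat_lit 6, nat_lit 1, nat_lit 6] else (Wt_37_39 j)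
def Wt_40_42 (j : ℕ) : List ℕ := bif Nat.blt j 41 then [nat_lit 4, nat_lit 1, nat_lit 0, nat_lit 4, nat_lit 1] else [nat_lit 5, nat_lit 1, nat_lit 6, nat_lit 0, nat_lit 1, nat_lit 3, nat_lit 5, nat_lit 6, nat_lit 4, nat_lit 6]
def Wt_39_42 (j : ℕ) : List ℕ := bif Nat.blt j 40 then [nat_lit 63, nat_lit 0, nat_lit 3, nat_lit 2, nat_lit 1, nat_lit 3, nat_lit 1] else (Wt_40_42 j)
def Wt_36_42 (j : ℕ) : List ℕ := bif Nat.blt j 39 then (Wt_36_39 j) else (Wt_39_42 j)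
def Wt_43_45 (j : ℕ) : List ℕ := bif Nat.blt j 44 then [nat_lit 5, nat_lit 4, nat_lit 3, nat_lit 5, nat_lit 4] else [nat_lit 63, nat_lit 6, nat_lit 3, nat_lit 2, nat_lit 0, nat_lit 6, nat_lit 0]
def Wt_42_45 (j : ℕ) : List ℕ := bif Nat.blt j 43 then [nat_lit 3, nat_lit 5, nat_lit 6, nat_lit 4, nat_lit 6, nat_lit 5, nat_lit 1, nat_lit 6, nat_lit 0, nat_lit 1] else (Wt_43_45 j)
def Wt_45_47 (j : ℕ) : List ℕ := bif Nat.blt j 46 then [nat_lit 4, nat_lit 1, nat_lit 4, nat_lit 1, nat_lit 0] else [nat_lit 1, nat_lit 5, nat_lit 1, nat_lit 5, nat_lit 1, nat_lit 5]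
def Wt_47_49 (j : ℕ) : List ℕ := bif Nat.blt j 48 then [nat_lit 5, nat_lit 6, nat_lit 4, nat_lit 6, nat_lit 5, nat_lit 3, nat_lit 1, nat_lit 0, nat_lit 6, nat_lit 1] else [nat_lit 0, nat_lit 6, nat_lit 1, nat_lit 5, nat_lit 6, nat_lit 4, nat_lit 6, nat_lit 5, nat_lit 3, nat_lit 1]
def Wt_45_49 (j : ℕ) : List ℕ := bif Nat.blt j 47 then (Wt_45_47 j) else (Wt_47_49 j)
def Wt_42_49 (j : ℕ) : List ℕ := bif Nat.blt j 45 then (Wt_42_45 j) else (Wt_45_49 j)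
def Wt_36_49 (j : ℕ) : List ℕ := bif Nat.blt j 42 then (Wt_36_42 j) else (Wt_42_49 j)
def Wt_24_49 (j : ℕ) : List ℕ := bif Nat.blt j 36 then (Wt_24_36 j) else (Wt_36_49 j)
def Wt_0_49 (j : ℕ) : List ℕ := bif Nat.blt j 24 then (Wt_0_24 j) else (Wt_24_49 j)
def Wt (j : ℕ) : List ℕ := (Wt_0_49 j)
def W (j : ℕ) : List ℕ := bif Nat.blt j 49 then Wt j else []
theorem W_ge (j : ℕ) (h : 49 ≤ j) : W j = [] := by
  unfold W
  rw [blt_false_of_le h]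
  rfl
def Hl : List ℕ := [nat_lit 0, nat_lit 1, nat_lit 2, nat_lit 3, nat_lit 4, nat_lit 5]
def isH (y : ℕ) : Bool := List.elem y Hl
def Rb : List (List ℕ) := [[nat_lit 0, nat_lit 0],
  [nat_lit 1, nat_lit 1],
  [nat_lit 1, nat_lit 0, nat_lit 1, nat_lit 0],
  [nat_lit 2, nat_lit 2],
  [nat_lit 2, nat_lit 0, nat_lit 2, nat_lit 0, nat_lit 2, nat_lit 0, nat_lit 2, nat_lit 0, nat_lit 2, nat_lit 0, nat_lit 2, nat_lit 0, nat_lit 2, nat_lit 0],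
  [nat_lit 2, nat_lit 1, nat_lit 2, nat_lit 1],
  [nat_lit 3, nat_lit 3],
  [nat_lit 3, nat_lit 0, nat_lit 3, nat_lit 0, nat_lit 3, nat_lit 0, nat_lit 3, nat_lit 0, nat_lit 3, nat_lit 0, nat_lit 3, nat_lit 0, nat_lit 3, nat_lit 0],
  [nat_lit 0, nat_lit 3, nat_lit 2, nat_lit 1, nat_lit 3, nat_lit 1],
  [nat_lit 4, nat_lit 4],
  [nat_lit 4, nat_lit 3, nat_lit 4, nat_lit 3],
  [nat_lit 4, nat_lit 1, nat_lit 4, nat_lit 1, nat_lit 0],
  [nat_lit 5, nat_lit 5],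
  [nat_lit 5, nat_lit 1, nat_lit 5, nat_lit 1, nat_lit 5, nat_lit 1],
  [nat_lit 5, nat_lit 4, nat_lit 5, nat_lit 4, nat_lit 3],
  [nat_lit 0, nat_lit 5, nat_lit 0, nat_lit 2, nat_lit 0, nat_lit 5, nat_lit 0, nat_lit 2],
  [nat_lit 6, nat_lit 6],
  [nat_lit 6, nat_lit 1, nat_lit 6, nat_lit 1, nat_lit 6, nat_lit 1],
  [nat_lit 0, nat_lit 6, nat_lit 0, nat_lit 6, nat_lit 3, nat_lit 2],
  [nat_lit 0, nat_lit 6, nat_lit 1, nat_lit 5, nat_lit 6, nat_lit 4, nat_lit 6, nat_lit 5, nat_lit 3, nat_lit 1],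
  []]
def spT (j : ℕ) : ℕ := nat_lit 0x2026000080260000001a00002016000060240000601c000040270000e02700006016000000100000000a0000e026000000220000201000000020000000120000000c0000000600000012000000060000000200000000000080100001202700000017000060170000201a0000c0260000201d0000001c0000401c0000a0240000001e0000a0260000200a00006010000020170000001600004016000000140000000c000000060000a010000000240000a01000004025000020220000000400006024
def sp (j : ℕ) : ℕ := Nat.land (Nat.shiftRight (spT (Nat.shiftRight j 6)) (Nat.mul (Nat.land j 63) 32)) 4294967295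
theorem Eo_lt (r : ℕ) : Eo r < 18014398509481984 := land54_lt _
def cT (j : ℕ) : ℕ := nat_lit 0x2500002400002300002200002100001f00001d00001c00001a00001900001800001700001600001300001100000f00000e00000d00000c00000a000008000007000006000005000004000002000001000000
noncomputable def cChunk (h : ℕ) : ℕ := Nat.rec (motive := fun _ => ℕ) (cT 0) (fun n _ => cT (Nat.succ n)) h
noncomputable def cF (i : ℕ) : ℕ := Nat.land (Nat.shiftRight (cChunk (Nat.shiftRight i 7)) (Nat.mul (Nat.land i 127) 24)) 16777215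
theorem cF_lt (i : ℕ) : cF i < 16777216 := land24_lt _
theorem cF_zero : cF 0 = 0 := by decide +kernel
def nDef : ℕ := 37
def nEv : ℕ := 181
def nW : ℕ := 49
def N : ℕ := 28
def ys : List ℕ := [nat_lit 0, nat_lit 1, nat_lit 2, nat_lit 3, nat_lit 4, nat_lit 5, nat_lit 6]
def Js : List ℕ := [nat_lit 0, nat_lit 1, nat_lit 2, nat_lit 3, nat_lit 4, nat_lit 5, nat_lit 6]
def Jp : List ℕ := [nat_lit 0, nat_lit 1, nat_lit 2, nat_lit 3, nat_lit 4, nat_lit 5]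
end Cfsg.Agent.Lib.ToddCox.L37C1
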